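import Groth.Agent.Lib.LciGrp13.Main
import Groth.Agent.Lib.Neutral.OpenPart
import Groth.Agent.Lib.Neutral.Artin
import Groth.Agent.Lib.Neutral.Constructible
import Mathlib.AlgebraicGeometry.AlgClosed.Basic

/-!
Flat group schemes locally of finite presentation are local complete intersections: no quasi-compactness.
-/

universe u

open CategoryTheory CategoryTheory.Limits MonoidalCategory CartesianMonoidalCategory MonObj GrpObj AlgebraicGeometry

set_option backward.isDefEq.respectTransparency false

namespace GrothLib.LciGrp14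

open GrothLib.LCI6 GrothLib.Neutral

/-- A group scheme locally of finite type over an algebraically closed field is lci. -/
theorem inLocus_of_isAlgClosed {k : Type u} [Field k] [IsAlgClosed k]
    (G : Over (Spec (CommRingCat.of k))) [GrpObj G] [LocallyOfFiniteType G.hom] (x : G.left) :
    InLocus G.hom x := by
  let o := IsLocalRing.closedPoint k
  haveI : Subsingleton ↥(Spec (CommRingCat.of k)) := inferInstanceAs (Subsingleton (PrimeSpectrum k))
  have hlft : ∀ s, LocallyOfFiniteType (G.hom.fiberToSpecResidueField s) := fun s =>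
    MorphismProperty.pullback_snd _ _ inferInstance
  have heq := connectedComponent_unit_eq k G o
  let U : G.left.Opens := ⟨SGA3x.neutralSet G, heq ▸ isOpen_connectedComponent k G _⟩
  obtain ⟨_, -⟩ := exists_grpObj_openPart G U (unit_mem_neutralSet G)
    (fun q h₁ h₂ => mul_mem_neutralSet G q (hlft _) h₁ h₂) (fun g hg => inv_mem_neutralSet G hg)
  haveI : LocallyOfFiniteType (openPart G U).hom := inferInstanceAs (LocallyOfFiniteType (U.ι ≫ G.hom))
  haveI : CompactSpace U.toScheme :=
    isCompact_iff_compactSpace.mp (show IsCompact (SGA3x.neutralSet G) by rw [← heq]; exact isCompact_connectedComponent G _)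
  haveI : QuasiCompact (openPart G U).hom :=
    (quasiCompact_iff_compactSpace (openPart G U).hom).mpr ‹CompactSpace U.toScheme›
  have h0 : InLocus G.hom (η[G].left o) :=
    (inLocus_openImmersion_comp_iff U.ι G.hom (z := ⟨_, unit_mem_neutralSet G o⟩)).mp
      (LciGrp13.inLocus_of_perfectField (openPart G U) _)
  haveI : JacobsonSpace G.left := LocallyOfFiniteType.jacobsonSpace G.hom
  by_contra hx
  obtain ⟨z, hz, hzc⟩ := nonempty_inter_closedPoints (Z := {y : G.left | InLocus G.hom y}ᶜ) ⟨x, hx⟩
    (isOpen_inLocus G.hom).isClosed_compl.isLocallyClosed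
  obtain ⟨a', ha'⟩ := (pointEquivClosedPoint G.hom).surjective ⟨z, hzc⟩
  let a : 𝟙_ (Over (Spec (CommRingCat.of k))) ⟶ G := Over.homMk a'.1 a'.2
  let t : G ⟶ G := (toUnit G ≫ a) * 𝟙 G
  haveI : IsIso t := ⟨⟨(toUnit G ≫ a)⁻¹ * 𝟙 G, by
    simp only [t, MonObj.comp_mul, GrpObj.comp_inv, Category.comp_id]
    rw [← Category.assoc, toUnit_unique (((toUnit G ≫ a) * 𝟙 G) ≫ toUnit G) (toUnit G), inv_mul_cancel_left], by
    simp only [t, MonObj.comp_mul, GrpObj.comp_inv, Category.comp_id]
    rw [← Category.assoc, toUnit_unique (((toUnit G ≫ a)⁻¹ * 𝟙 G) ≫ toUnit G) (toUnit G), mul_inv_cancel_left]⟩⟩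
  have ht : η[G] ≫ t = a := by
    rw [MonObj.comp_mul, Category.comp_id, ← Category.assoc, toUnit_unique (η[G] ≫ toUnit G) (𝟙 _), Category.id_comp,
      MonObj.one_eq_one, _root_.mul_one]
  haveI : IsIso t.left := inferInstanceAs (IsIso ((Over.forget _).map t))
  have hzt : t.left (η[G].left o) = z := by
    rw [← Scheme.Hom.comp_apply, ← Over.comp_left, ht]
    exact (pointEquivClosedPoint_apply_coe G.hom a').symm.trans (congrArg Subtype.val ha') |>.trans rfl
  apply hz
  show InLocus G.hom z
  rw [← hzt, ← inLocus_openImmersion_comp_iff t.left G.hom, Over.w t]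
  exact h0

/-- A flat group scheme locally of finite presentation is lci over the base. -/
theorem inLocus {B : Scheme.{u}} (G : Over B) [GrpObj G] [Flat G.hom] [LocallyOfFinitePresentation G.hom]
    (x : G.left) : InLocus G.hom x := by
  let K := AlgebraicClosure (B.residueField (G.hom x))
  let b : Spec (CommRingCat.of K) ⟶ B :=
    Spec.map (CommRingCat.ofHom (algebraMap (B.residueField (G.hom x)) K)) ≫ B.fromSpecResidueField (G.hom x)
  let GK := (Over.pullback b).obj G
  letI : GrpObj GK := Functor.grpObjObj
  haveI : LocallyOfFiniteType GK.hom := inferInstanceAs (LocallyOfFiniteType (pullback.snd G.hom b))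
  obtain ⟨z, hz, -⟩ := Scheme.Pullback.exists_preimage_pullback (f := G.hom) (g := b) x
    (IsLocalRing.closedPoint K) (by
      show G.hom x = (Spec.map _ ≫ B.fromSpecResidueField (G.hom x)) _
      rw [Scheme.Hom.comp_apply, Scheme.fromSpecResidueField_apply])
  exact hz ▸ (LciGrp13.inLocus_iff_of_isPullback (IsPullback.of_hasPullback G.hom b) z).mp (inLocus_of_isAlgClosed GK z)

end GrothLib.LciGrp14
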